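import Groth.Agent.HomotopySeq.Main
import Groth.Agent.SpecializePi.Main
import Groth.Agent.Pi1X.FEtGalois
import Groth.Agent.AlgSpDec.OneFlat

/-! Covers split on one geometric fibre. -/

set_option autoImplicit false
set_option linter.style.haveILetI false
set_option backward.isDefEq.respectTransparency false
set_option backward.isDefEq.respectTransparency.types false
universe u

open CategoryTheory CategoryTheory.Limits AlgebraicGeometry TopologicalSpace

noncomputable section

namespace Groth.Agent.HomotopySeq

/-- A cover split on one geometric fibre comes from the base. -/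
theorem essImage_of_split {X S : Scheme.{u}} (f : X ⟶ S) [IsProper f] [Flat f] [LocallyOfFinitePresentation f]
    [ConnectedSpace S] [GeometricallyReduced f] [GeometricallyConnected f]
    (Y : FEt.Cat X) (Ω : Type u) [Field Ω] [IsAlgClosed Ω]
    (s : Spec (CommRingCat.of Ω) ⟶ S)
    (hsplit : ∀ z : ↥(pullback Y.hom (pullback.fst f s)), ∃ σ : pullback f s ⟶ pullback Y.hom (pullback.fst f s),
      σ ≫ pullback.snd Y.hom (pullback.fst f s) = 𝟙 _ ∧ z ∈ Set.range σ) : (FEt.restrict f).essImage Y := by
  haveI : IsFinite Y.hom := Y.prop.1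
  haveI : Etale Y.hom := Y.prop.2
  let g := Y.hom ≫ f
  haveI : GeometricallyReduced g := by
    refine SpecializePi.geometricallyReduced_of_isAlgClosed g fun K _ _ t => ?_
    haveI : IsReduced (pullback f t) :=
      GeometricallyReduced.geometrically_isReduced (f := f) _ _ _ (.of_hasPullback _ _)
    haveI : Etale (pullback.snd Y.hom (pullback.fst f t)) := MorphismProperty.pullback_snd _ _ inferInstance
    haveI : IsReduced (pullback Y.hom (pullback.fst f t)) :=
      AlgSpDec.isReduced_of_etaleMor (pullback.snd Y.hom (pullback.fst f t))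
    exact isReduced_of_isOpenImmersion (pullbackRightPullbackFstIso f t Y.hom).inv
  obtain ⟨hfin, het, hgood⟩ := SteinFE.stein g
  haveI := hfin; haveI := het
  let ν := g.fromNormalization
  let h := g.toNormalization
  haveI := geometricallyConnected_of_good h hgood
  let W := pullback ν f
  haveI : UniversallyOpen (pullback.fst ν f) := MorphismProperty.pullback_fst _ _ inferInstance
  haveI : GeometricallyConnected (pullback.fst ν f) := MorphismProperty.pullback_fst _ _ ‹_›
  let φ : Y.left ⟶ W := pullback.lift h Y.hom g.toNormalization_fromNormalization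
  have hφ₁ : φ ≫ pullback.snd ν f = Y.hom := pullback.lift_snd _ _ _
  have hφ₂ : φ ≫ pullback.fst ν f = h := pullback.lift_fst _ _ _
  let S' : FEt.Cat S := MorphismProperty.Over.mk ⊤ ν ⟨hfin, het⟩
  have hφp : FEt.prop φ := Pi1X.prop_of_comp _ (pullback.snd ν f)
    (MorphismProperty.pullback_snd _ _ ⟨hfin, het⟩) (by rw [hφ₁]; exact Y.prop)
  haveI : IsFinite φ := hφp.1
  haveI : Etale φ := hφp.2
  let Xs := pullback f s
  haveI : ConnectedSpace Xs :=
    GeometricallyConnected.geometrically_connectedSpace (f := f) _ _ _ (.of_hasPullback _ _)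
  have key : ∀ (c : Spec (CommRingCat.of Ω) ⟶ g.normalization) (hc : c ≫ ν = s),
      IsIso (pullback.snd φ (pullback.lift (pullback.snd f s ≫ c) (pullback.fst f s)
        (by rw [Category.assoc, hc, pullback.condition]) : Xs ⟶ W)) := by
    intro c hc
    let j : Xs ⟶ W := pullback.lift (pullback.snd f s ≫ c) (pullback.fst f s) (by
      rw [Category.assoc, hc, pullback.condition])
    have hj₁ : j ≫ pullback.snd ν f = pullback.fst f s := pullback.lift_snd _ _ _
    have hj₂ : j ≫ pullback.fst ν f = pullback.snd f s ≫ c := pullback.lift_fst _ _ _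
    have hjp : IsPullback j (pullback.snd f s) (pullback.fst ν f) c := by
      refine IsPullback.of_right ?_ hj₂ (IsPullback.of_hasPullback ν f).flip
      rw [hc, hj₁]
      exact IsPullback.of_hasPullback f s
    -- the fibre of `φ` over `j`
    let P := pullback φ j
    let π : P ⟶ Xs := pullback.snd φ j
    haveI : IsFinite π := MorphismProperty.pullback_snd _ _ hφp.1
    haveI : Etale π := MorphismProperty.pullback_snd _ _ hφp.2
    haveI : ConnectedSpace P := by
      have hP : IsPullback (pullback.fst φ j) (π ≫ pullback.snd f s) h c := by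
        rw [← hφ₂]
        exact (IsPullback.of_hasPullback φ j).paste_vert hjp
      exact GeometricallyConnected.geometrically_connectedSpace (f := h) _ _ _ hP
    have hjs : j ≫ pullback.snd ν f = pullback.fst f s := hj₁
    obtain ⟨p⟩ : Nonempty P := inferInstance
    let u : P ⟶ pullback Y.hom (pullback.fst f s) := pullback.lift (pullback.fst φ j) π
      (by rw [← hφ₁, ← Category.assoc, pullback.condition, Category.assoc, hjs])
    obtain ⟨σ', hσ', x₁, hx₁⟩ := hsplit (u p)
    let σ := σ' ≫ pullback.fst Y.hom (pullback.fst f s)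
    have hσ : σ ≫ Y.hom = pullback.fst f s := by
      rw [Category.assoc, pullback.condition, ← Category.assoc, hσ', Category.id_comp]
    let d : Xs ⟶ pullback ν s := pullback.lift (σ ≫ h) (pullback.snd f s) (by
      rw [Category.assoc, g.toNormalization_fromNormalization, ← Category.assoc, hσ, pullback.condition])
    let t : Spec (CommRingCat.of Ω) ⟶ pullback ν s := pullback.lift c (𝟙 _) (hc.trans (Category.id_comp _).symm)
    have ht : t ≫ pullback.snd ν s = 𝟙 _ := pullback.lift_snd _ _ _
    haveI : IsFinite (pullback.snd ν s) := MorphismProperty.pullback_snd _ _ hfin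
    haveI : Etale (pullback.snd ν s) := MorphismProperty.pullback_snd _ _ het
    haveI : IsSplitMono t := ⟨⟨⟨pullback.snd ν s, ht⟩⟩⟩
    haveI : Etale (t ≫ pullback.snd ν s) := by rw [ht]; infer_instance
    haveI : Etale t := Etale.of_comp t (pullback.snd ν s)
    haveI : IsOpenImmersion t := IsOpenImmersion.of_flat_of_mono t
    haveI : IsClosedImmersion t := by
      haveI : IsClosedImmersion (t ≫ pullback.snd ν s) := by rw [ht]; infer_instance
      exact IsClosedImmersion.of_comp t (pullback.snd ν s)
    have hdx : d x₁ ∈ Set.range t := by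
      refine ⟨pullback.snd f s (π p), ?_⟩
      have e₁ : σ' ≫ pullback.fst Y.hom (pullback.fst f s) ≫ h = σ ≫ h := (Category.assoc _ _ _).symm
      have e₂ : u ≫ pullback.fst Y.hom (pullback.fst f s) ≫ h = π ≫ pullback.snd f s ≫ c := by
        rw [← Category.assoc, pullback.lift_fst, ← hφ₂, pullback.condition_assoc, hj₂]
      have hx₁' : x₁ = π p := by
        have := congrArg (pullback.snd Y.hom (pullback.fst f s)) hx₁
        rw [← Scheme.Hom.comp_apply, hσ', ← Scheme.Hom.comp_apply, pullback.lift_snd] at this
        exact this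
      let D' : pullback Y.hom (pullback.fst f s) ⟶ pullback ν s :=
        pullback.lift (pullback.fst Y.hom (pullback.fst f s) ≫ h) (pullback.snd _ _ ≫ pullback.snd f s)
        (by rw [Category.assoc, g.toNormalization_fromNormalization, Category.assoc, ← pullback.condition,
          ← Category.assoc (pullback.snd Y.hom _), ← pullback.condition, Category.assoc])
      have e₃ : σ' ≫ D' = d := by
        apply pullback.hom_ext
        · simp only [D', d, σ, Category.assoc, pullback.lift_fst]
        · simp only [D', d, Category.assoc, pullback.lift_snd]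
          rw [← Category.assoc, hσ', Category.id_comp]
      have e₄ : u ≫ D' = π ≫ pullback.snd f s ≫ t := by
        apply pullback.hom_ext
        · simp only [D', t, Category.assoc, pullback.lift_fst]; exact e₂
        · simp only [D', t, u, Category.assoc, pullback.lift_snd, pullback.lift_snd_assoc, Category.comp_id]
      calc t (pullback.snd f s (π p)) = (π ≫ pullback.snd f s ≫ t) p := rfl
        _ = D' (u p) := by rw [← e₄]; rfl
        _ = D' (σ' x₁) := by rw [hx₁]
        _ = d x₁ := by rw [← e₃]; rfl
    have hrange : Set.range d ⊆ Set.range t := by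
      have hc' : IsClopen (d ⁻¹' Set.range t) :=
        ⟨t.isClosedEmbedding.isClosed_range.preimage d.continuous, t.isOpenEmbedding.isOpen_range.preimage d.continuous⟩
      rintro _ ⟨x, rfl⟩
      exact (hc'.eq_univ ⟨x₁, hdx⟩).ge (Set.mem_univ x)
    have hσc : σ ≫ h = pullback.snd f s ≫ c := by
      let l := IsOpenImmersion.lift t d hrange
      have hl : l ≫ t = d := IsOpenImmersion.lift_fac _ _ _
      have hl' : l = pullback.snd f s := by
        have := congrArg (· ≫ pullback.snd ν s) hl
        simp only [Category.assoc, ht, Category.comp_id] at this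
        rw [this]; exact pullback.lift_snd _ _ _
      have := congrArg (· ≫ pullback.fst ν s) hl
      simp only [Category.assoc, t, pullback.lift_fst] at this
      rw [hl'] at this
      exact (this.trans (pullback.lift_fst _ _ _)).symm
    let τ : Xs ⟶ P := pullback.lift σ (𝟙 _) (by
      apply pullback.hom_ext
      · rw [Category.assoc, hφ₂, hσc, Category.id_comp, hj₂]
      · rw [Category.assoc, hφ₁, hσ, Category.id_comp, hj₁])
    have hτ : τ ≫ π = 𝟙 _ := pullback.lift_snd _ _ _
    haveI : IsSplitMono τ := ⟨⟨⟨π, hτ⟩⟩⟩
    haveI : Etale (τ ≫ π) := by rw [hτ]; infer_instance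
    haveI : Etale τ := Etale.of_comp τ π
    haveI : IsOpenImmersion τ := IsOpenImmersion.of_flat_of_mono τ
    haveI : Surjective τ := by
      haveI : IsClosedImmersion (τ ≫ π) := by rw [hτ]; infer_instance
      haveI : IsClosedImmersion τ := IsClosedImmersion.of_comp τ π
      exact ⟨Set.range_eq_univ.1 (IsClopen.eq_univ
        ⟨τ.isClosedEmbedding.isClosed_range, τ.isOpenEmbedding.isOpen_range⟩ (Set.range_nonempty _))⟩
    haveI : IsIso τ := (isIso_iff_isOpenImmersion_and_surjective _).2 ⟨inferInstance, inferInstance⟩
    haveI : IsIso π := by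
      rw [show π = inv τ by rw [← cancel_epi τ, hτ, IsIso.hom_inv_id]]; infer_instance
    assumption
  haveI : IsIso φ := by
    let A : FEt.Cat W := MorphismProperty.Over.mk ⊤ φ hφp
    let B : FEt.Cat W := MorphismProperty.Over.mk ⊤ (𝟙 W) (MorphismProperty.id_mem _ _)
    let m : A ⟶ B := MorphismProperty.Over.homMk φ (Category.comp_id _) trivial
    have : IsIso m := Pi1X.isIso_of_fiber_bijective m fun C hC hne => by
      let q := pullback.fst ν f
      haveI : Surjective q := inferInstance
      have hsat : ∀ w w', q w = q w' → w ∈ C → w' ∈ C := fun w w' he hw =>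
        (q.isConnected_preimage_singleton (q w)).isPreconnected.subset_isClopen hC ⟨w, rfl, hw⟩ he.symm
      have hco : (q '' C)ᶜ = q '' Cᶜ := by
        ext n
        obtain ⟨w, rfl⟩ := q.surjective n
        constructor
        · exact fun hn => ⟨w, fun hw => hn ⟨w, hw, rfl⟩, rfl⟩
        · rintro ⟨w', hw', he⟩ ⟨v, hv, he'⟩
          exact hw' (hsat v w' (he'.trans he.symm) hv)
      have hD : IsClopen (q '' C) := by
        refine ⟨?_, q.isOpenMap _ hC.2⟩
        rw [← isOpen_compl_iff, hco]
        exact q.isOpenMap _ hC.compl.2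
      have hE : IsClopen (ν '' (q '' C)) := ⟨ν.isClosedMap _ hD.1, ν.isOpenMap _ hD.2⟩
      obtain ⟨n, hn, hns⟩ := (hE.eq_univ ((hne.image _).image _)).ge (Set.mem_univ (s (IsLocalRing.closedPoint Ω)))
      obtain ⟨⟨c, hc⟩, hc₀⟩ := Pi1X.exists_lift_at s ν n hns
      replace hc₀ : c (IsLocalRing.closedPoint Ω) = n := hc₀
      let j : Xs ⟶ W := pullback.lift (pullback.snd f s ≫ c) (pullback.fst f s)
        (by rw [Category.assoc, hc, pullback.condition])
      let P := pullback φ j
      let π : P ⟶ Xs := pullback.snd φ j
      haveI : IsIso π := key c hc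
      obtain ⟨x₀⟩ : Nonempty Xs := inferInstance
      have hxC : j x₀ ∈ C := by
        obtain ⟨w, hw, rfl⟩ := hn
        refine hsat w _ ?_ hw
        rw [← Scheme.Hom.comp_apply, show j ≫ q = pullback.snd f s ≫ c from pullback.lift_fst _ _ _,
          Scheme.Hom.comp_apply, Pi1X.eq_closedPoint (pullback.snd f s x₀), hc₀]
      obtain ⟨Ω', _, _, z, hz⟩ := Pi1X.exists_geometric_point (S := Xs) x₀
      refine ⟨Ω', inferInstance, inferInstance, z ≫ j, ?_, ?_, ?_⟩
      · rw [Scheme.Hom.comp_apply, hz]; exact hxC
      · rintro ⟨a, ha⟩ ⟨b, hb⟩ -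
        let la : _ ⟶ P := pullback.lift a z ha
        let lb : _ ⟶ P := pullback.lift b z hb
        have hl : la = lb := by
          rw [← cancel_mono π]
          exact (pullback.lift_snd a z ha).trans (pullback.lift_snd b z hb).symm
        apply Subtype.ext
        exact ((pullback.lift_fst a z ha).symm.trans (congrArg (· ≫ pullback.fst φ j) hl)).trans (pullback.lift_fst b z hb)
      · rintro ⟨b, hb⟩
        refine ⟨⟨z ≫ inv π ≫ pullback.fst φ j, ?_⟩, Subtype.ext ?_⟩
        · show (z ≫ inv π ≫ pullback.fst φ j) ≫ φ = z ≫ j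
          rw [Category.assoc, Category.assoc, pullback.condition, IsIso.inv_hom_id_assoc]
        · show (z ≫ inv π ≫ pullback.fst φ j) ≫ φ = b
          rw [Category.assoc, Category.assoc, pullback.condition, IsIso.inv_hom_id_assoc]
          exact (Category.comp_id b).symm.trans hb |>.symm
    exact inferInstanceAs (IsIso ((MorphismProperty.Over.forget FEt.prop ⊤ W ⋙ CategoryTheory.Over.forget W).map m))
  refine ⟨S', ⟨MorphismProperty.Over.isoMk (asIso φ).symm ?_⟩⟩
  show inv φ ≫ Y.hom = pullback.snd ν f
  exact (IsIso.inv_comp_eq φ).2 hφ₁.symm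

end Groth.Agent.HomotopySeq
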