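import Groth.Agent.SteinFE.Main
import Groth.Agent.SpecializePi.Main
import Groth.Agent.Pi1X.FEtGalois
import Groth.Agent.AlgSpDec.OneFlat

/-! The middle of the homotopy exact sequence. -/

set_option autoImplicit false
set_option linter.style.haveILetI false
set_option backward.isDefEq.respectTransparency false
set_option backward.isDefEq.respectTransparency.types false
universe u

open CategoryTheory CategoryTheory.Limits AlgebraicGeometry TopologicalSpace

noncomputable section

namespace Groth.Agent.HomotopySeq

theorem connectedSpace_of_bijective {P : Scheme.{u}} {K : Type u} [Field K] (q : P ⟶ Spec (CommRingCat.of K))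
    (h : Function.Bijective q.appTop) : ConnectedSpace P := by
  haveI : Nontrivial Γ(P, ⊤) := by
    haveI : Nontrivial Γ(Spec (CommRingCat.of K), ⊤) :=
      (Scheme.ΓSpecIso (CommRingCat.of K)).commRingCatIsoToRingEquiv.symm.injective.nontrivial
    exact h.1.nontrivial
  haveI : Nonempty P := by
    by_contra hne
    rw [not_nonempty_iff] at hne
    haveI : Subsingleton Γ(P, ⊤) := inferInstance
    exact false_of_nontrivial_of_subsingleton Γ(P, ⊤)
  rw [connectedSpace_iff_clopen]
  refine ⟨inferInstance, fun U hU => ?_⟩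
  obtain ⟨ε, hε, hεU⟩ := HensCouple7.exists_idempotent_of_isClopen hU
  obtain ⟨r, rfl⟩ := h.2 ε
  let e := (Scheme.ΓSpecIso (CommRingCat.of K)).commRingCatIsoToRingEquiv
  have hr : e r * e r = e r := by
    rw [← map_mul]
    exact congrArg e (h.1 (by rw [map_mul]; exact hε))
  rcases eq_or_ne (e r) 0 with h0 | h0
  · left
    rw [← hεU, e.injective (h0.trans (map_zero e).symm), map_zero, Scheme.basicOpen_zero]
    rfl
  · right
    have h1 : e r = 1 := mul_left_cancel₀ h0 (hr.trans (mul_one _).symm)
    rw [← hεU, e.injective (h1.trans (map_one e).symm), map_one, Scheme.basicOpen_of_isUnit _ isUnit_one]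
    rfl

theorem geometricallyConnected_of_good {X N : Scheme.{u}} (h : X ⟶ N) (H : SteinFE.Good h) :
    GeometricallyConnected h := ⟨fun K _ y P fst snd sq => by
  have hH : SteinFE.Good snd := H.of_isPullback sq
  haveI := hH.app ⊤
  exact connectedSpace_of_bijective snd (ConcreteCategory.bijective_of_isIso snd.appTop)⟩

theorem essImage_of_section {X S : Scheme.{u}} (f : X ⟶ S) [IsProper f] [Flat f] [LocallyOfFinitePresentation f]
    [ConnectedSpace S] [GeometricallyReduced f] [GeometricallyConnected f]
    (Y : FEt.Cat X) [ConnectedSpace Y.left] (Ω : Type u) [Field Ω] [IsAlgClosed Ω]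
    (s : Spec (CommRingCat.of Ω) ⟶ S) (σ : pullback f s ⟶ Y.left)
    (hσ : σ ≫ Y.hom = pullback.fst f s) : (FEt.restrict f).essImage Y := by
  haveI : IsFinite Y.hom := Y.prop.1
  haveI : Etale Y.hom := Y.prop.2
  let g := Y.hom ≫ f
  haveI : GeometricallyReduced g := by
    refine SpecializePi.geometricallyReduced_of_isAlgClosed g fun K _ _ t => ?_
    haveI : IsReduced (pullback f t) :=
      GeometricallyReduced.geometrically_isReduced (f := f) _ _ _ (.of_hasPullback _ _)
    haveI : Etale (pullback.snd Y.hom (pullback.fst f t)) := MorphismProperty.pullback_snd _ _ inferInstance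
    haveI : IsReduced (pullback Y.hom (pullback.fst f t)) :=
      AlgSpDec.isReduced_of_etaleMor (pullback.snd Y.hom (pullback.fst f t))
    exact isReduced_of_isOpenImmersion (pullbackRightPullbackFstIso f t Y.hom).inv
  obtain ⟨hfin, het, hgood⟩ := SteinFE.stein g
  haveI := hfin; haveI := het
  let ν := g.fromNormalization
  let h := g.toNormalization
  haveI := geometricallyConnected_of_good h hgood
  haveI : ConnectedSpace g.normalization := by
    haveI : ConnectedSpace ↥((𝟭 Scheme).obj Y.left) := ‹ConnectedSpace Y.left›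
    exact h.surjective.connectedSpace h.continuous
  let W := pullback ν f
  haveI : UniversallyOpen (pullback.fst ν f) := MorphismProperty.pullback_fst _ _ inferInstance
  haveI : GeometricallyConnected (pullback.fst ν f) := MorphismProperty.pullback_fst _ _ ‹_›
  haveI : ConnectedSpace W := GeometricallyConnected.connectedSpace (pullback.fst ν f) (pullback.fst ν f).isOpenMap
  let φ : Y.left ⟶ W := pullback.lift h Y.hom g.toNormalization_fromNormalization
  have hφ₁ : φ ≫ pullback.snd ν f = Y.hom := pullback.lift_snd _ _ _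
  have hφ₂ : φ ≫ pullback.fst ν f = h := pullback.lift_fst _ _ _
  let S' : FEt.Cat S := MorphismProperty.Over.mk ⊤ ν ⟨hfin, het⟩
  have hφp : FEt.prop φ := Pi1X.prop_of_comp _ (pullback.snd ν f)
    (MorphismProperty.pullback_snd _ _ ⟨hfin, het⟩) (by rw [hφ₁]; exact Y.prop)
  haveI : IsFinite φ := hφp.1
  haveI : Etale φ := hφp.2
  -- the constant value of `σ ≫ h`
  let Xs := pullback f s
  haveI : ConnectedSpace Xs :=
    GeometricallyConnected.geometrically_connectedSpace (f := f) _ _ _ (.of_hasPullback _ _)
  let D := pullback ν s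
  let d : Xs ⟶ D := pullback.lift (σ ≫ h) (pullback.snd f s) (by
    rw [Category.assoc, g.toNormalization_fromNormalization, ← Category.assoc, hσ, pullback.condition])
  haveI : IsFinite (pullback.snd ν s) := MorphismProperty.pullback_snd _ _ hfin
  haveI : Etale (pullback.snd ν s) := MorphismProperty.pullback_snd _ _ het
  obtain ⟨x₀⟩ : Nonempty Xs := inferInstance
  obtain ⟨⟨t, ht⟩, ht₀⟩ := Pi1X.exists_lift_at (𝟙 _) (pullback.snd ν s) (d x₀) (Subsingleton.elim _ _)
  haveI : IsSplitMono t := ⟨⟨⟨pullback.snd ν s, ht⟩⟩⟩
  haveI : Etale (t ≫ pullback.snd ν s) := by rw [ht]; infer_instance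
  haveI : Etale t := Etale.of_comp t (pullback.snd ν s)
  haveI : IsOpenImmersion t := IsOpenImmersion.of_flat_of_mono t
  have hrange : Set.range d ⊆ Set.range t := by
    haveI : IsSeparated (pullback.snd ν s) := inferInstance
    haveI : IsClosedImmersion t := by
      haveI : IsClosedImmersion (t ≫ pullback.snd ν s) := by rw [ht]; infer_instance
      exact IsClosedImmersion.of_comp t (pullback.snd ν s)
    have hc : IsClopen (d ⁻¹' Set.range t) :=
      ⟨t.isClosedEmbedding.isClosed_range.preimage d.continuous, t.isOpenEmbedding.isOpen_range.preimage d.continuous⟩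
    rintro _ ⟨x, rfl⟩
    exact (hc.eq_univ ⟨x₀, IsLocalRing.closedPoint Ω, ht₀⟩).ge (Set.mem_univ x)
  let c : Spec (CommRingCat.of Ω) ⟶ g.normalization := t ≫ pullback.fst ν s
  have hc : c ≫ ν = s := by
    rw [Category.assoc, pullback.condition, ← Category.assoc, ht, Category.id_comp]
  have hσc : σ ≫ h = pullback.snd f s ≫ c := by
    let l := IsOpenImmersion.lift t d hrange
    have hl : l ≫ t = d := IsOpenImmersion.lift_fac _ _ _
    have hl' : l = pullback.snd f s := by
      have := congrArg (· ≫ pullback.snd ν s) hl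
      simp only [Category.assoc, ht, Category.comp_id] at this
      rw [this]; exact pullback.lift_snd _ _ _
    have := congrArg (· ≫ pullback.fst ν s) hl
    simp only [Category.assoc] at this
    rw [hl'] at this
    exact (this.trans (pullback.lift_fst _ _ _)).symm
  let j : Xs ⟶ W := pullback.lift (pullback.snd f s ≫ c) (pullback.fst f s) (by
    rw [Category.assoc, hc, pullback.condition])
  have hj₁ : j ≫ pullback.snd ν f = pullback.fst f s := pullback.lift_snd _ _ _
  have hj₂ : j ≫ pullback.fst ν f = pullback.snd f s ≫ c := pullback.lift_fst _ _ _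
  have hjp : IsPullback j (pullback.snd f s) (pullback.fst ν f) c := by
    refine IsPullback.of_right ?_ hj₂ (IsPullback.of_hasPullback ν f).flip
    rw [hc, hj₁]
    exact IsPullback.of_hasPullback f s
  -- the fibre of `φ` over `j`
  let P := pullback φ j
  let π : P ⟶ Xs := pullback.snd φ j
  haveI : IsFinite π := MorphismProperty.pullback_snd _ _ hφp.1
  haveI : Etale π := MorphismProperty.pullback_snd _ _ hφp.2
  haveI : ConnectedSpace P := by
    have hP : IsPullback (pullback.fst φ j) (π ≫ pullback.snd f s) h c := by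
      rw [← hφ₂]
      exact (IsPullback.of_hasPullback φ j).paste_vert hjp
    exact GeometricallyConnected.geometrically_connectedSpace (f := h) _ _ _ hP
  let τ : Xs ⟶ P := pullback.lift σ (𝟙 _) (by
    apply pullback.hom_ext
    · rw [Category.assoc, hφ₂, hσc, Category.id_comp, hj₂]
    · rw [Category.assoc, hφ₁, hσ, Category.id_comp, hj₁])
  have hτ : τ ≫ π = 𝟙 _ := pullback.lift_snd _ _ _
  haveI : IsSplitMono τ := ⟨⟨⟨π, hτ⟩⟩⟩
  haveI : Etale (τ ≫ π) := by rw [hτ]; infer_instance
  haveI : Etale τ := Etale.of_comp τ π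
  haveI : IsOpenImmersion τ := IsOpenImmersion.of_flat_of_mono τ
  haveI : Surjective τ := by
    haveI : IsClosedImmersion (τ ≫ π) := by rw [hτ]; infer_instance
    haveI : IsClosedImmersion τ := IsClosedImmersion.of_comp τ π
    exact ⟨Set.range_eq_univ.1 (IsClopen.eq_univ
      ⟨τ.isClosedEmbedding.isClosed_range, τ.isOpenEmbedding.isOpen_range⟩ (Set.range_nonempty _))⟩
  haveI : IsIso τ := (isIso_iff_isOpenImmersion_and_surjective _).2 ⟨inferInstance, inferInstance⟩
  haveI : IsIso π := by
    rw [show π = inv τ by rw [← cancel_epi τ, hτ, IsIso.hom_inv_id]]; infer_instance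
  -- degree one
  haveI : IsIso φ := by
    let A : FEt.Cat W := MorphismProperty.Over.mk ⊤ φ hφp
    let B : FEt.Cat W := MorphismProperty.Over.mk ⊤ (𝟙 W) (MorphismProperty.id_mem _ _)
    let m : A ⟶ B := MorphismProperty.Over.homMk φ (Category.comp_id _) trivial
    obtain ⟨Ω', _, _, z, hz⟩ := Pi1X.exists_geometric_point (S := Xs) x₀
    have : IsIso m := Pi1X.isIso_of_fiber_bijective m fun C hC hne => by
      refine ⟨Ω', inferInstance, inferInstance, z ≫ j, ?_, ?_, ?_⟩
      · rw [hC.eq_univ hne]; trivial
      · rintro ⟨a, ha⟩ ⟨b, hb⟩ -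
        let la : _ ⟶ P := pullback.lift a z ha
        let lb : _ ⟶ P := pullback.lift b z hb
        have hl : la = lb := by
          rw [← cancel_mono π]
          exact (pullback.lift_snd a z ha).trans (pullback.lift_snd b z hb).symm
        apply Subtype.ext
        exact ((pullback.lift_fst a z ha).symm.trans (congrArg (· ≫ pullback.fst φ j) hl)).trans (pullback.lift_fst b z hb)
      · rintro ⟨b, hb⟩
        refine ⟨⟨z ≫ inv π ≫ pullback.fst φ j, ?_⟩, Subtype.ext ?_⟩
        · show (z ≫ inv π ≫ pullback.fst φ j) ≫ φ = z ≫ j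
          rw [Category.assoc, Category.assoc, pullback.condition, IsIso.inv_hom_id_assoc]
        · show (z ≫ inv π ≫ pullback.fst φ j) ≫ φ = b
          rw [Category.assoc, Category.assoc, pullback.condition, IsIso.inv_hom_id_assoc]
          exact (Category.comp_id b).symm.trans hb |>.symm
    exact inferInstanceAs (IsIso ((MorphismProperty.Over.forget FEt.prop ⊤ W ⋙ CategoryTheory.Over.forget W).map m))
  refine ⟨S', ⟨MorphismProperty.Over.isoMk (asIso φ).symm ?_⟩⟩
  show inv φ ≫ Y.hom = pullback.snd ν f
  exact (IsIso.inv_comp_eq φ).2 hφ₁.symm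

end Groth.Agent.HomotopySeq
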